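import Mathlib
import Cfsg.Agent.Lib.helper14.CTA.Defs
import Cfsg.Agent.Lib.Helper22.CTATVAPI
import Cfsg.Agent.Lib.Helper28.CTD.Defs
import Cfsg.Agent.Lib.helper17.SLN.Defs
import Cfsg.Agent.Lib.Lead.STD.Defs

/-!
# Project OMP (designer helper17): the gluing block of S2295 (10u).

`Ω⁺_2n(F)` (`n ≥ 4`, `F` finite) is obtained from ANY presentation of `SL_n(F)` by adding ONE generator `y` and SIX relators
(seven if `n = 4`).  With helper1's S2288 (`SL_n`: 7 generators, 25 relators; `SL_5`: 6/22; `SL_4`: 6/21) this gives the frozen numbers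
of S2295: `8` generators, `31` relators (`29` if `n = 4, 5`).

MODEL: `Ω⁺_2n` on `e_i, f_i`; `Φ g = diag(g, g⁻ᵀ)` (`Φ (tv i j t) = Td (inl i) (inl j) t`);
`y = w_{e₀+e₁}(1) = x_{0,-1}(1) x_{-1,0}(-1) x_{0,-1}(1)` (`e₀ ↦ -f₁`, `f₁ ↦ e₀`, `e₁ ↦ f₀`, `f₀ ↦ -e₁`).

In an abstract group `G` everything is phrased through `Φ : SL ι F →* G` and `y : G`:
* `yy i j` = the conjugate of `y` by `Φ g` for a `g` moving `(o0, o1)` to `(i, j)` (`Mv`); model: `w_{e_i+e_j}(1)`;
* `PP a b k t = yy b k * Φ (tv a k t) * (yy b k)⁻¹` (model: `x_{a,-b}(t)`, the root `e_a + e_b`; it does not depend on `k`),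
* `NN a b k t = yy b k * Φ (tv k a t) * (yy b k)⁻¹` (model: `x_{-b,a}(t)`, the root `-e_a - e_b`);
* `OG p Φ y` : the consequences of the relators which the abstract theory uses (block A of the skeleton);
* `ORel p ζ c Φ y` : the six (seven) relators themselves (block B derives `OG` from `ORel`);
* `Theta p Φ y = conj y ∘ Φ ∘ (SL₃ on the indices o3 o2 o1)` : the `SL₃` of helper28's CTD row `extendD`, with `(p, a, b) = (o3, o2, o0)`.
All formulas were validated numerically (`Ω⁺_8(5)`, `Ω⁺_10(7)`), the relator set by coset enumeration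
(`(n,q) = (4,2) (4,3) (5,2)` over `Φ(SL_n)`, `(4,5) (5,3) (6,2)` over the Siegel parabolic).
-/

set_option autoImplicit false

namespace Cfsg.Agent.Lib.helper17.OMP

open Matrix Cfsg.Agent.Lib.helper14.CTE Cfsg.Agent.Lib.helper14.CTA Cfsg.Agent.Lib.helper17.SLN

universe u v w w'

/-! ## elements of `SL ι F` -/

section Elts

variable {F : Type u} [Field F] {ι : Type w} [Fintype ι] [DecidableEq ι]

/-- the Weyl word `x_ij(1) x_ji(-1) x_ij(1)`: `e_j ↦ e_i`, `e_i ↦ -e_j`. -/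
def wE (i j : ι) : Matrix.SpecialLinearGroup ι F := tv i j 1 * tv j i (-1) * tv i j 1

/-- the torus word `h_ij(s) = w_ij(s) w_ij(-1)`: `diag (s at i, s⁻¹ at j)` (for `s ≠ 0`). -/
def hE (i j : ι) (s : F) : Matrix.SpecialLinearGroup ι F :=
  tv i j s * tv j i (-s⁻¹) * tv i j s * (tv i j (-1) * tv j i 1 * tv i j (-1))

/-- `h_ij(-1)`: the diagonal matrix with `-1` at `i` and `j`. -/
def hm (i j : ι) : Matrix.SpecialLinearGroup ι F := hE i j (-1)

/-- `g` moves `(a, b)` to `(c, d)`: the columns `a, b` of `g` are `e_c, e_d` and the rows `c, d` of `g` are `e_a, e_b`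
(so `g` is a block matrix: a bijection `{a, b} → {c, d}` plus an arbitrary block on the complements). -/
def Mv (g : Matrix.SpecialLinearGroup ι F) (a b c d : ι) : Prop :=
  g.1 *ᵥ Pi.single a 1 = Pi.single c 1 ∧ g.1 *ᵥ Pi.single b 1 = Pi.single d 1 ∧
    Pi.single c 1 ᵥ* g.1 = Pi.single a 1 ∧ Pi.single d 1 ᵥ* g.1 = Pi.single b 1

/-- `g` moves the index `a` to `c`: the column `a` of `g` is `e_c` and the row `c` of `g` is `e_a`. -/
def Mv1 (g : Matrix.SpecialLinearGroup ι F) (a c : ι) : Prop :=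
  g.1 *ᵥ Pi.single a 1 = Pi.single c 1 ∧ Pi.single c 1 ᵥ* g.1 = Pi.single a 1

theorem Mv_iff (g : Matrix.SpecialLinearGroup ι F) (a b c d : ι) : Mv g a b c d ↔ Mv1 g a c ∧ Mv1 g b d := by
  unfold Mv Mv1
  tauto

end Elts

/-! ## block embeddings along an injection -/

section Emb

variable {F : Type u} [Field F] {ι : Type w} [Fintype ι] [DecidableEq ι] {κ : Type w'} [Fintype κ] [DecidableEq κ]

/-- the inclusion matrix `C i a = [i = f a]`. -/
def inclI (F : Type u) [Field F] (f : κ → ι) : Matrix ι κ F :=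
  Matrix.of fun i a => if i = f a then 1 else 0

/-- `M` on the coordinates `f a`, the identity elsewhere. -/
def embM (f : κ → ι) (M : Matrix κ κ F) : Matrix ι ι F :=
  1 + inclI F f * (M - 1) * (inclI F f)ᵀ

omit [Fintype κ] in
theorem inclI_tr_mul (f : κ → ι) (hf : Function.Injective f) : (inclI F f)ᵀ * inclI F f = 1 := by
  ext a b
  simp only [Matrix.mul_apply, Matrix.transpose_apply, inclI, Matrix.of_apply, Matrix.one_apply]
  rw [Finset.sum_eq_single (f a)]
  · by_cases hab : a = b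
    · subst hab; simp
    · have : f a ≠ f b := fun h => hab (hf h)
      simp [hab, this]
  · intro j _ hj; simp [hj]
  · intro h; exact absurd (Finset.mem_univ _) h

theorem embM_mul (f : κ → ι) (hf : Function.Injective f) (M N : Matrix κ κ F) :
    embM f (M * N) = embM f M * embM f N := by
  unfold embM
  have h := inclI_tr_mul (F := F) f hf
  have e : inclI F f * (M - 1) * (inclI F f)ᵀ * (inclI F f * (N - 1) * (inclI F f)ᵀ)
      = inclI F f * ((M - 1) * (N - 1)) * (inclI F f)ᵀ := by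
    calc inclI F f * (M - 1) * (inclI F f)ᵀ * (inclI F f * (N - 1) * (inclI F f)ᵀ)
        = inclI F f * (M - 1) * ((inclI F f)ᵀ * inclI F f) * (N - 1) * (inclI F f)ᵀ := by
          simp only [Matrix.mul_assoc]
      _ = _ := by rw [h, Matrix.mul_one]; simp only [Matrix.mul_assoc]
  rw [mul_add, add_mul, add_mul, one_mul, mul_one, one_mul, e]
  have e2 : M * N - 1 = (M - 1) + (N - 1) + (M - 1) * (N - 1) := by
    noncomm_ring
  rw [e2, Matrix.mul_add, Matrix.mul_add, Matrix.add_mul, Matrix.add_mul]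
  abel

theorem embM_det (f : κ → ι) (hf : Function.Injective f) (M : Matrix κ κ F) :
    (embM f M).det = M.det := by
  unfold embM
  rw [Matrix.mul_assoc, Matrix.det_one_add_mul_comm, Matrix.mul_assoc, inclI_tr_mul f hf, Matrix.mul_one]
  congr 1
  abel

/-- the block embedding `SL κ F → SL ι F` on the coordinates `f a`. -/
def embI (f : κ → ι) (hf : Function.Injective f) :
    Matrix.SpecialLinearGroup κ F →* Matrix.SpecialLinearGroup ι F :=
  MonoidHom.mk' (fun M => ⟨embM f M.1, by rw [embM_det f hf]; exact M.2⟩)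
    (fun M N => Subtype.ext (by
      show embM f (M * N).1 = embM f M.1 * embM f N.1
      rw [Matrix.SpecialLinearGroup.coe_mul, embM_mul f hf]))

theorem embI_coe (f : κ → ι) (hf : Function.Injective f) (M : Matrix.SpecialLinearGroup κ F) :
    ((embI f hf M : Matrix.SpecialLinearGroup ι F) : Matrix ι ι F) = embM f M.1 := rfl

end Emb

/-! ## the abstract side -/

section Abs

variable {F : Type u} [Field F] {G : Type v} [Group G] {ι : Type w} [Fintype ι] [DecidableEq ι]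

open Classical in
/-- the conjugate of `y` by `Φ g`, `g` moving `(o0, o1)` to `(i, j)` (`1` if there is no such `g`, i.e. if `i = j`).
Model: `w_{e_i + e_j}(1)`. -/
noncomputable def yy (p : Pts ι) (Φ : Matrix.SpecialLinearGroup ι F →* G) (y : G) (i j : ι) : G :=
  if h : ∃ g : Matrix.SpecialLinearGroup ι F, Mv g p.o0 p.o1 i j then Φ h.choose * y * (Φ h.choose)⁻¹ else 1

/-- the root element of `e_a + e_b` (model: `x_{a,-b}(t) = Td (inl a) (inr b) t`), computed through the index `k`. -/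
noncomputable def PP (p : Pts ι) (Φ : Matrix.SpecialLinearGroup ι F →* G) (y : G) (a b k : ι) (t : F) : G :=
  yy p Φ y b k * Φ (tv a k t) * (yy p Φ y b k)⁻¹

/-- the root element of `-e_a - e_b` (model: `x_{-b,a}(t) = Td (inr b) (inl a) t`), computed through the index `k`. -/
noncomputable def NN (p : Pts ι) (Φ : Matrix.SpecialLinearGroup ι F →* G) (y : G) (a b k : ι) (t : F) : G :=
  yy p Φ y b k * Φ (tv k a t) * (yy p Φ y b k)⁻¹

/-- The facts about `Φ, y` which the abstract theory (block A) uses; block B derives them from the relators `ORel`. -/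
structure OG (p : Pts ι) (Φ : Matrix.SpecialLinearGroup ι F →* G) (y : G) : Prop where
  /-- `y` commutes with the block `SL` on the complement of `o0 o1` -/
  cB : ∀ g : Matrix.SpecialLinearGroup ι F, Mv g p.o0 p.o1 p.o0 p.o1 → Commute y (Φ g)
  /-- `y` commutes with the `SL₂` on `o0 o1` -/
  cL : ∀ t : F, Commute y (Φ (tv p.o0 p.o1 t)) ∧ Commute y (Φ (tv p.o1 p.o0 t))
  /-- swapping `o0 o1` (without signs) inverts `y` -/
  inv : ∀ g : Matrix.SpecialLinearGroup ι F, Mv g p.o0 p.o1 p.o1 p.o0 → Φ g * y * (Φ g)⁻¹ = y⁻¹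
  /-- `h_{12}(-1)` inverts `y` -/
  invD : Φ (hm p.o1 p.o2) * y * (Φ (hm p.o1 p.o2))⁻¹ = y⁻¹
  /-- the spin relation -/
  spin : y * y = Φ (hm p.o0 p.o1)
  /-- the pin relation `w_{e0+e2} w_{12}(1) w_{e0+e2}⁻¹ = w_{e0+e1}⁻¹` -/
  pin : yy p Φ y p.o0 p.o2 * Φ (wE p.o1 p.o2) * (yy p Φ y p.o0 p.o2)⁻¹ = y⁻¹
  /-- type II: `[x_{01}(1), x_{0,-1}(1)] = 1` -/
  two : Commute (Φ (tv p.o0 p.o1 1)) (PP p Φ y p.o0 p.o1 p.o2 1)
  /-- type I' (only needed when there is no fifth index) -/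
  one : Fintype.card ι = 4 → Commute (Φ (tv p.o2 p.o3 1)) (PP p Φ y p.o0 p.o1 p.o2 1) ∧
    Commute (Φ (tv p.o2 p.o3 1)) (NN p Φ y p.o0 p.o1 p.o2 1)

/-- the three indices `o3 o2 o1` -/
def f3 (p : Pts ι) : Fin 3 → ι := ![p.o3, p.o2, p.o1]

omit [Fintype ι] [DecidableEq ι] in
theorem f3_injective (p : Pts ι) : Function.Injective (f3 p) := by
  intro a b h
  fin_cases a <;> fin_cases b <;> simp [f3] at h ⊢ <;>
    first
      | exact absurd h p.h23.symm | exact absurd h.symm p.h23.symm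
      | exact absurd h p.h13.symm | exact absurd h.symm p.h13.symm
      | exact absurd h p.h12.symm | exact absurd h.symm p.h12.symm

/-- the `SL₃` of the roots `e_{o3} - e_{o2}`, `e_{o2} + e_{o0}`: the `y`-conjugate of the `SL₃` on `o3 o2 o1`
(= the `Θ` of helper28's CTD row `extendD` for `(p, a, b) = (o3, o2, o0)`). -/
def Theta (p : Pts ι) (Φ : Matrix.SpecialLinearGroup ι F →* G) (y : G) : SL3 F →* G :=
  (MulAut.conj y).toMonoidHom.comp (Φ.comp (embI (f3 p) (f3_injective p)))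

/-- `ν₀ = w_{01} w_{23} h_{12}(-1)`: the signed permutation matrix `-(0 1) ⊕ (2 3)`. -/
def nu0 (p : Pts ι) : Matrix.SpecialLinearGroup ι F := wE p.o0 p.o1 * wE p.o2 p.o3 * hm p.o1 p.o2

/-- `σ = w_{10} w_{21}`: the 3-cycle `e_{o0} ↦ e_{o1} ↦ e_{o2} ↦ e_{o0}`. -/
def sgE (p : Pts ι) : Matrix.SpecialLinearGroup ι F := wE p.o1 p.o0 * wE p.o2 p.o1

/-- the element `w_{e0+e2}(1)` of the relators: the conjugate of `y` by `Φ (w_{21})` -/
def Y02 (p : Pts ι) (Φ : Matrix.SpecialLinearGroup ι F →* G) (y : G) : G :=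
  Φ (wE p.o2 p.o1) * y * (Φ (wE p.o2 p.o1))⁻¹

/-- the element `w_{e1+e2}(1)` of the relators: the conjugate of `y` by `Φ σ` -/
def Y12 (p : Pts ι) (Φ : Matrix.SpecialLinearGroup ι F →* G) (y : G) : G :=
  Φ (sgE p) * y * (Φ (sgE p))⁻¹

/-- `x_{0,-1}(1)` as it appears in the relators -/
def P01 (p : Pts ι) (Φ : Matrix.SpecialLinearGroup ι F →* G) (y : G) : G :=
  Y12 p Φ y * Φ (tv p.o0 p.o2 1) * (Y12 p Φ y)⁻¹

/-- `x_{-1,0}(1)` as it appears in the relators -/
def N01 (p : Pts ι) (Φ : Matrix.SpecialLinearGroup ι F →* G) (y : G) : G :=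
  Y12 p Φ y * Φ (tv p.o2 p.o0 1) * (Y12 p Φ y)⁻¹

/-- The relators (`ζ` a generator of `Fˣ`, `c` an element of the block `SL` on the complement of `o0 o1` whose conjugates of the
`SL₂` on `o2 o3` generate that block; `c = 1` if `|ι| = 4`): six of them if `|ι| ≥ 5` (`r1 ra rb r3 r5 r7`), seven if `|ι| = 4`
(`r1 ra rb r5 r7` and the two parts of `r8`; `r3` is then empty). -/
structure ORel (p : Pts ι) (ζ : F) (c : Matrix.SpecialLinearGroup ι F)
    (Φ : Matrix.SpecialLinearGroup ι F →* G) (y : G) : Prop where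
  r1 : Φ (nu0 p) * y * (Φ (nu0 p))⁻¹ = y * Φ (hm p.o0 p.o1)
  ra : Commute y (Φ (tv p.o0 p.o1 1 * hE p.o2 p.o3 ζ))
  rb : Commute y (Φ (tv p.o2 p.o3 1 * hE p.o0 p.o1 ζ))
  r3 : Commute y (Φ c)
  r5 : Y02 p Φ y * Φ (wE p.o1 p.o2) * (Y02 p Φ y)⁻¹ = y⁻¹
  r7 : Commute (Φ (tv p.o0 p.o1 1)) (P01 p Φ y)
  r8 : Fintype.card ι = 4 → Commute (Φ (tv p.o2 p.o3 1)) (P01 p Φ y) ∧ Commute (Φ (tv p.o2 p.o3 1)) (N01 p Φ y)

/-- The hypothesis on the element `c` of the relator `r3`: a subgroup containing `c` and the `SL₂` on `o2 o3` contains the block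
`SL` on the complement of `o0 o1`. -/
def CoxHyp (p : Pts ι) (c : Matrix.SpecialLinearGroup ι F) : Prop :=
  Mv c p.o0 p.o1 p.o0 p.o1 ∧
  ∀ S : Subgroup (Matrix.SpecialLinearGroup ι F), c ∈ S → (∀ t : F, tv p.o2 p.o3 t ∈ S) → (∀ t : F, tv p.o3 p.o2 t ∈ S) →
    ∀ g : Matrix.SpecialLinearGroup ι F, Mv g p.o0 p.o1 p.o0 p.o1 → g ∈ S

end Abs

/-! ## `ι = Fin n` -/

section FinN

variable {F : Type u} [Field F]

/-- the Coxeter word `w_{23} w_{34} ⋯ w_{n-2,n-1}` of the block `SL` on `2, …, n-1` (`e_{n-1} ↦ e_2`, `e_k ↦ -e_{k+1}`) -/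
def cox (n : ℕ) : Matrix.SpecialLinearGroup (Fin n) F :=
  ((List.range (n - 3)).map (fun k =>
    if h : k + 3 < n then (wE (⟨k + 2, by omega⟩ : Fin n) ⟨k + 3, h⟩ : Matrix.SpecialLinearGroup (Fin n) F) else 1)).prod

/-- the element `c` of the relator `r3`: the Coxeter word if `n ≥ 5`, nothing if `n = 4` -/
def coxc (n : ℕ) : Matrix.SpecialLinearGroup (Fin n) F := if n = 4 then 1 else cox n

end FinN

/-! ## the matrix side -/

section Model

variable {K : Type u} [Field K] {l : Type w} [Fintype l] [DecidableEq l]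

/-- `g ↦ diag(g, g⁻ᵀ)` as a matrix on `l ⊕ l` -/
def PhiMM (g : Matrix.SpecialLinearGroup l K) : Matrix (l ⊕ l) (l ⊕ l) K :=
  Matrix.fromBlocks g.1 0 0 (tinvN g).1

theorem PhiMM_det (g : Matrix.SpecialLinearGroup l K) : (PhiMM g).det = 1 := by
  unfold PhiMM
  rw [Matrix.det_fromBlocks_zero₂₁, g.2, (tinvN g).2, one_mul]

/-- `Φ_M : SL l K →* SL (l ⊕ l) K`, `g ↦ diag(g, g⁻ᵀ)` -/
def PhiM : Matrix.SpecialLinearGroup l K →* Matrix.SpecialLinearGroup (l ⊕ l) K :=
  MonoidHom.mk' (fun g => ⟨PhiMM g, PhiMM_det g⟩)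
    (fun g h => Subtype.ext (by
      show PhiMM (g * h) = PhiMM g * PhiMM h
      unfold PhiMM
      rw [Matrix.fromBlocks_multiply, map_mul]
      simp))

end Model

end Cfsg.Agent.Lib.helper17.OMP
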