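import Mathlib
import Cfsg.Agent.Lib.helper17.OMP.Defs

/-!
# Project OMP (designer helper17): the relator set as a finite subset of the free product `SL_n(F) * ℤ`

The relators of `ORel` are words in `Φ g` (`g : SL_n(F)`) and `y`; here they are written in the free product
`Cop n F = Monoid.Coprod (SL (Fin n) F) (Multiplicative ℤ)` with `Φ = cI n` (the left injection) and `y = cY n` (the generator of `ℤ`),
using the very same definitions `nu0 Y02 P01 N01`.  `relSet n hn ζ` has six elements for `n ≠ 4` and seven for `n = 4`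
(row D2 of the skeleton: `relSet_card`, `relSet_iff`).
-/

set_option autoImplicit false

namespace Cfsg.Agent.Lib.helper17.OMP

open Matrix Cfsg.Agent.Lib.helper14.CTE Cfsg.Agent.Lib.helper14.CTA Cfsg.Agent.Lib.helper17.SLN

universe u

section RelSet

variable {F : Type u} [Field F]

/-- the free product `SL_n(F) * ℤ` -/
abbrev Cop (n : ℕ) (F : Type u) [Field F] : Type u :=
  Monoid.Coprod (Matrix.SpecialLinearGroup (Fin n) F) (Multiplicative ℤ)

/-- the left injection `SL_n(F) →* SL_n(F) * ℤ` -/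
def cI (n : ℕ) : Matrix.SpecialLinearGroup (Fin n) F →* Cop n F := Monoid.Coprod.inl

/-- the generator of `ℤ` in `SL_n(F) * ℤ` -/
def cY (n : ℕ) : Cop n F := Monoid.Coprod.inr (Multiplicative.ofAdd 1)

/-- the commutator word -/
def cmw {G : Type*} [Group G] (a b : G) : G := a * b * a⁻¹ * b⁻¹

/-- `r1` as a word -/
def s1 (n : ℕ) (hn : 4 ≤ n) : Cop n F :=
  cI n (nu0 (ptsFin n hn)) * cY n * (cI n (nu0 (ptsFin n hn)))⁻¹ * (cY n * cI n (hm (ptsFin n hn).o0 (ptsFin n hn).o1))⁻¹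

/-- `ra` as a word -/
def sa (n : ℕ) (hn : 4 ≤ n) (ζ : F) : Cop n F :=
  cmw (cY n) (cI n (tv (ptsFin n hn).o0 (ptsFin n hn).o1 1 * hE (ptsFin n hn).o2 (ptsFin n hn).o3 ζ))

/-- `rb` as a word -/
def sb (n : ℕ) (hn : 4 ≤ n) (ζ : F) : Cop n F :=
  cmw (cY n) (cI n (tv (ptsFin n hn).o2 (ptsFin n hn).o3 1 * hE (ptsFin n hn).o0 (ptsFin n hn).o1 ζ))

/-- `r3` as a word -/
def s3 (n : ℕ) : Cop n F := cmw (cY n) (cI n (cox n))

/-- `r5` as a word -/
def s5 (n : ℕ) (hn : 4 ≤ n) : Cop n F :=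
  Y02 (ptsFin n hn) (cI n) (cY n) * cI n (wE (ptsFin n hn).o1 (ptsFin n hn).o2) * (Y02 (ptsFin n hn) (cI n) (cY n))⁻¹ * cY n

/-- `r7` as a word -/
def s7 (n : ℕ) (hn : 4 ≤ n) : Cop n F :=
  cmw (cI n (tv (ptsFin n hn).o0 (ptsFin n hn).o1 1)) (P01 (ptsFin n hn) (cI n) (cY n))

/-- the first part of `r8` as a word -/
def s8 (n : ℕ) (hn : 4 ≤ n) : Cop n F :=
  cmw (cI n (tv (ptsFin n hn).o2 (ptsFin n hn).o3 1)) (P01 (ptsFin n hn) (cI n) (cY n))

/-- the second part of `r8` as a word -/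
def s8' (n : ℕ) (hn : 4 ≤ n) : Cop n F :=
  cmw (cI n (tv (ptsFin n hn).o2 (ptsFin n hn).o3 1)) (N01 (ptsFin n hn) (cI n) (cY n))

open Classical in
/-- **the relator set**: six relators if `n ≠ 4`, seven if `n = 4` -/
noncomputable def relSet (n : ℕ) (hn : 4 ≤ n) (ζ : F) : Finset (Cop n F) :=
  if n = 4 then {s1 n hn, sa n hn ζ, sb n hn ζ, s5 n hn, s7 n hn, s8 n hn, s8' n hn}
  else {s1 n hn, sa n hn ζ, sb n hn ζ, s3 n, s5 n hn, s7 n hn}

end RelSet

end Cfsg.Agent.Lib.helper17.OMP
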